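import Cfsg.Agent.H533.T5.Red

/-!
# Commutator closed normal sets of `p`-elements (S3828): the minimal configuration

`CSet p C` : `C` is a normal set of `p`-elements closed under commutators (and, for `p = 5`, under
squares).  `Iso p G C` : moreover `C` has a non-trivial element and every proper subgroup `H` has
`C ∩ H ⊆ O_p(H)`.  The statement S3828 is reduced in `Comm/Red.lean` to: a finite non-abelian
simple group has no `C` with `Iso p G C`.

Tools ("kills") for an `Iso p G C` in a finite simple group `G`: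

* `Iso.two` / `Iso.two_sylow` : a non-trivial element of `C` (a Sylow `p`-subgroup) is not
  contained in two proper subgroups generating `G`;
* `Iso.index_kill` : no proper subgroup of index prime to `p` has trivial `p`-core;
* `Iso.centralizes` : elements of `C` centralise the `p'`-subgroups which they normalise;
* `Iso.eq_one_of_normalizes` : in a group of local characteristic `r ≠ p` an element of `C`
  normalising a non-trivial `r`-subgroup is trivial;
* `Iso.triple_kill` : in a group of local characteristic `r ≠ p` no `r`-element `g ≠ 1` has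
  `g, c⁻¹ g c, c⁻² g c²` in a common `r`-subgroup, `1 ≠ c ∈ C`;
* `Iso.fix_commute` : the three point argument;
* `Iso.no_involution`.
-/

set_option autoImplicit false
set_option linter.unusedSectionVars false
set_option linter.unusedVariables false

namespace Cfsg.Agent.H533.Comm

universe u v

open Subgroup Cfsg

open scoped Pointwise

/-- Normal sets of `p`-elements closed under commutators (and squares if `p = 5`). -/
structure CSet (p : ℕ) {G : Type u} [Group G] (C : Set G) : Prop where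
  conj : ∀ g : G, ∀ c ∈ C, g * c * g⁻¹ ∈ C
  pel : ∀ c ∈ C, ∃ k : ℕ, orderOf c = p ^ k
  comm : ∀ c ∈ C, ∀ d ∈ C, c⁻¹ * d⁻¹ * c * d ∈ C
  sq : p = 5 → ∀ c ∈ C, c ^ 2 ∈ C

/-- The minimal configuration. -/
structure Iso (p : ℕ) (G : Type u) [Group G] (C : Set G) : Prop extends CSet p C where
  ne : ∃ c ∈ C, c ≠ 1
  core : ∀ H : Subgroup G, H ≠ ⊤ → ∀ (c : G) (hc : c ∈ H), c ∈ C → (⟨c, hc⟩ : H) ∈ pCore p H

/-- The row: a group without minimal configuration for the prime `p`. -/
def CRow (p : ℕ) (G : Type u) [Group G] : Prop := ∀ C : Set G, ¬ Iso p G C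

variable {G : Type u} [Group G] {p : ℕ} {C : Set G}

theorem CSet.isPGroup_zpowers [Fact p.Prime] (h : CSet p C) {c : G} (hc : c ∈ C) :
    IsPGroup p ↥(Subgroup.zpowers c) := by
  obtain ⟨k, hk⟩ := h.pel c hc
  exact IsPGroup.of_card (n := k) (by rw [Nat.card_zpowers, hk])

theorem CSet.eq_one_of_coprime [Fact p.Prime] (h : CSet p C) {c : G} (hc : c ∈ C) {r : ℕ}
    (hr : r.Prime) (hrp : r ≠ p) {k : ℕ} (hk : c ^ r ^ k = 1) : c = 1 := by
  obtain ⟨j, hj⟩ := h.pel c hc
  have h1 : orderOf c ∣ r ^ k := orderOf_dvd_of_pow_eq_one hk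
  rw [hj] at h1
  have h2 : (p ^ j).Coprime (r ^ k) :=
    Nat.Coprime.pow j k ((Nat.coprime_primes Fact.out hr).mpr hrp.symm)
  have h3 := h2.eq_one_of_dvd h1
  rw [← hj, orderOf_eq_one_iff] at h3
  exact h3

theorem CSet.conj' (h : CSet p C) (g : G) {c : G} (hc : c ∈ C) : g⁻¹ * c * g ∈ C := by
  simpa using h.conj g⁻¹ c hc

section core

theorem Iso.mem_map (h : Iso p G C) {H : Subgroup G} (hH : H ≠ ⊤) {c : G} (hc : c ∈ C)
    (hcH : c ∈ H) : c ∈ (pCore p H).map H.subtype :=
  ⟨⟨c, hcH⟩, h.core H hH c hcH hc, rfl⟩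

theorem isPGroup_map_core {G : Type u} [Group G] {p : ℕ} (H : Subgroup G) :
    IsPGroup p ↥((pCore p H).map H.subtype) :=
  (Cfsg.Agent.Lib.Cores.pCore_isPGroup p).map _

theorem Iso.isPGroup_closure (h : Iso p G C) {H : Subgroup G} (hH : H ≠ ⊤) :
    IsPGroup p ↥(Subgroup.closure (C ∩ (H : Set G))) := by
  refine (isPGroup_map_core (p := p) H).to_le ?_
  rw [Subgroup.closure_le]
  rintro c ⟨hc, hcH⟩
  exact h.mem_map hH hc hcH

end core

section simple

variable [Finite G] [IsSimpleGroup G] [Fact p.Prime]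

theorem not_isPGroup_of_simple (hna : ¬ IsMulCommutative G) : ¬ IsPGroup p G := by
  intro hP
  have h2 : Nontrivial (Subgroup.center G) := hP.center_nontrivial
  rw [T5.center_eq_bot_of_simple hna] at h2
  exact (not_subsingleton_iff_nontrivial.mpr h2) inferInstance

theorem ne_top_of_isPGroup (hna : ¬ IsMulCommutative G) {K : Subgroup G} (hK : IsPGroup p K) :
    K ≠ ⊤ := by
  rintro rfl
  exact not_isPGroup_of_simple (p := p) hna (hK.of_equiv Subgroup.topEquiv)

/-- The normaliser of a nontrivial `p`-subgroup is proper. -/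
theorem normalizer_ne_top (hna : ¬ IsMulCommutative G) {K : Subgroup G} (hK : IsPGroup p K)
    (hK1 : K ≠ ⊥) : Subgroup.normalizer (K : Set G) ≠ ⊤ := by
  intro htop
  have hn : K.Normal := Subgroup.normalizer_eq_top_iff.mp htop
  rcases hn.eq_bot_or_eq_top with h | h
  · exact hK1 h
  · exact ne_top_of_isPGroup hna hK h

theorem closure_ne_bot {E : Set G} {c : G} (hc : c ∈ E) (hc1 : c ≠ 1) :
    Subgroup.closure E ≠ ⊥ := by
  intro h
  apply hc1
  have h1 : c ∈ Subgroup.closure E := Subgroup.subset_closure hc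
  rwa [h, Subgroup.mem_bot] at h1

theorem mem_smul_sylow {P : Sylow p G} {g x : G} :
    x ∈ ((g • P : Sylow p G) : Set G) ↔ g⁻¹ * x * g ∈ (P : Set G) := by
  have h1 : x ∈ ((g • P : Sylow p G) : Subgroup G) ↔ x ∈ MulAut.conj g • (P : Subgroup G) := Iff.rfl
  change x ∈ ((g • P : Sylow p G) : Subgroup G) ↔ g⁻¹ * x * g ∈ (P : Subgroup G)
  rw [h1, Subgroup.mem_pointwise_smul_iff_inv_smul_mem, ← map_inv, MulAut.smul_def,
    MulAut.conj_apply, inv_inv]

theorem ncard_inter_sylow (hconj : ∀ g : G, ∀ c ∈ C, g * c * g⁻¹ ∈ C) (P Q : Sylow p G) :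
    (C ∩ (P : Set G)).ncard = (C ∩ (Q : Set G)).ncard := by
  obtain ⟨g, rfl⟩ := MulAction.exists_smul_eq G P Q
  refine Set.ncard_congr (fun x _ => g * x * g⁻¹) ?_ ?_ ?_
  · rintro x ⟨hx, hxP⟩
    refine ⟨hconj g x hx, ?_⟩
    rw [mem_smul_sylow]
    have : g⁻¹ * (g * x * g⁻¹) * g = x := by group
    rwa [this]
  · rintro x y _ _ hxy
    exact mul_left_cancel (mul_right_cancel hxy)
  · rintro x ⟨hx, hxQ⟩
    rw [mem_smul_sylow] at hxQ
    refine ⟨g⁻¹ * x * g, ⟨by simpa using hconj g⁻¹ x hx, hxQ⟩, by group⟩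

/-- Two Sylow subgroups sharing a nontrivial element of `C` have the same intersection
with `C`. -/
theorem Iso.inter_sylow_eq (h : Iso p G C) (hna : ¬ IsMulCommutative G) :
    ∀ (n : ℕ) (P Q : Sylow p G), Nat.card G ≤ n + (C ∩ (P : Set G) ∩ (Q : Set G)).ncard →
      (∃ c ∈ C, c ≠ 1 ∧ c ∈ P ∧ c ∈ Q) → C ∩ (P : Set G) = C ∩ (Q : Set G) := by
  intro n
  induction n with
  | zero =>
    intro P Q hle _
    have hfin : (Set.univ : Set G).Finite := Set.toFinite _
    have h1 : (C ∩ (P : Set G) ∩ (Q : Set G)) = Set.univ := by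
      apply Set.eq_of_subset_of_ncard_le (Set.subset_univ _)
      rw [Set.ncard_univ]; omega
    have h2 : C ∩ (P : Set G) = Set.univ :=
      Set.univ_subset_iff.mp (h1 ▸ Set.inter_subset_left)
    have h3 : (C ∩ (Q : Set G)) = Set.univ := by
      rw [Set.eq_univ_iff_forall] at h1 ⊢
      exact fun x => ⟨(h1 x).1.1, (h1 x).2⟩
    rw [h2, h3]
  | succ n ih =>
    rintro P Q hle ⟨c, hc, hc1, hcP, hcQ⟩
    by_contra hne
    set E : Set G := C ∩ (P : Set G) ∩ (Q : Set G) with hE
    have hcE : c ∈ E := ⟨⟨hc, hcP⟩, hcQ⟩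
    have hEsub : ∀ (R : Sylow p G), E ⊆ (R : Set G) →
        C ∩ (Subgroup.closure E : Set G) ⊆ (R : Set G) := by
      intro R hR x hx
      have : Subgroup.closure E ≤ (R : Subgroup G) := (Subgroup.closure_le _).mpr hR
      exact this hx.2
    have hEP : E ⊆ (P : Set G) := fun x hx => hx.1.2
    have hEQ : E ⊆ (Q : Set G) := fun x hx => hx.2
    have hEeq : C ∩ (Subgroup.closure E : Set G) = E := by
      apply Set.Subset.antisymm
      · intro x hx
        exact ⟨⟨hx.1, hEsub P hEP hx⟩, hEsub Q hEQ hx⟩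
      · intro x hx
        exact ⟨hx.1.1, Subgroup.subset_closure hx⟩
    have hcard := ncard_inter_sylow (p := p) h.conj P Q
    have hfin : ∀ S : Set G, S.Finite := fun S => Set.toFinite S
    have hPne : E ⊂ C ∩ (P : Set G) := by
      refine lt_of_le_of_ne Set.inter_subset_left ?_
      intro heq
      apply hne
      apply Set.eq_of_subset_of_ncard_le _ hcard.symm.le (hfin _)
      intro x hx
      have : x ∈ E := heq ▸ hx
      exact ⟨this.1.1, this.2⟩
    have hQne : E ⊂ C ∩ (Q : Set G) := by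
      refine lt_of_le_of_ne (fun x hx => ⟨hx.1.1, hx.2⟩) ?_
      intro heq
      apply hne
      symm
      apply Set.eq_of_subset_of_ncard_le _ hcard.le (hfin _)
      intro x hx
      have : x ∈ E := heq ▸ hx
      exact this.1
    obtain ⟨x, hx, hxP, hxE, hxN⟩ :=
      Cfsg.Agent.Involutions.BaerSuzuki.exists_mem_normalizer_closure (p := p) h.conj
        P.isPGroup' hEeq hPne
    obtain ⟨y, hy, hyQ, hyE, hyN⟩ :=
      Cfsg.Agent.Involutions.BaerSuzuki.exists_mem_normalizer_closure (p := p) h.conj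
        Q.isPGroup' hEeq hQne
    -- the normaliser of `⟨E⟩`
    have hEp : IsPGroup p ↥(Subgroup.closure E) :=
      P.isPGroup'.to_le ((Subgroup.closure_le _).mpr hEP)
    have hN := normalizer_ne_top hna hEp (closure_ne_bot hcE hc1)
    set N := Subgroup.normalizer ((Subgroup.closure E : Subgroup G) : Set G) with hNdef
    obtain ⟨R, hR⟩ := (h.isPGroup_closure hN).exists_le_sylow
    have hER : E ⊆ (R : Set G) := by
      intro z hz
      apply hR
      refine Subgroup.subset_closure ⟨hz.1.1, ?_⟩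
      exact Subgroup.le_normalizer (Subgroup.subset_closure hz)
    have hxR : x ∈ (R : Subgroup G) := hR (Subgroup.subset_closure ⟨hx, hxN⟩)
    have hyR : y ∈ (R : Subgroup G) := hR (Subgroup.subset_closure ⟨hy, hyN⟩)
    have hgrow : ∀ (S : Sylow p G) (z : G), z ∈ C → z ∈ (S : Subgroup G) → z ∉ E →
        z ∈ (R : Subgroup G) → E ⊆ (S : Set G) → C ∩ (S : Set G) = C ∩ (R : Set G) := by
      intro S z hz hzS hzE hzR hES
      refine ih S R ?_ ⟨c, hc, hc1, hES hcE, hER hcE⟩
      have hlt : E.ncard < (C ∩ (S : Set G) ∩ (R : Set G)).ncard := by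
        apply Set.ncard_lt_ncard _ (hfin _)
        refine ⟨fun w hw => ⟨⟨hw.1.1, hES hw⟩, hER hw⟩, fun hsub => hzE (hsub ⟨⟨hz, hzS⟩, hzR⟩)⟩
      omega
    apply hne
    rw [hgrow P x hx hxP hxE hxR hEP, hgrow Q y hy hyQ hyE hyR hEQ]

/-- The maximal subgroup belonging to a Sylow subgroup. -/
def maxl (C : Set G) (P : Sylow p G) : Subgroup G :=
  Subgroup.normalizer ((Subgroup.closure (C ∩ (P : Set G)) : Subgroup G) : Set G)

theorem Iso.maxl_ne_top (h : Iso p G C) (hna : ¬ IsMulCommutative G) {P : Sylow p G} {c : G}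
    (hc : c ∈ C) (hc1 : c ≠ 1) (hcP : c ∈ P) : maxl C P ≠ ⊤ := by
  refine normalizer_ne_top (p := p) hna (P.isPGroup'.to_le ?_) (closure_ne_bot ⟨hc, hcP⟩ hc1)
  rw [Subgroup.closure_le]
  exact Set.inter_subset_right

theorem Iso.sylow_le_maxl (h : Iso p G C) (P : Sylow p G) : (P : Subgroup G) ≤ maxl C P := by
  intro x hx
  refine Subgroup.mem_normalizer_fintype ?_
  intro y hy
  have h1 : Subgroup.closure (C ∩ (P : Set G))
      ≤ (Subgroup.closure (C ∩ (P : Set G))).comap (MulAut.conj x).toMonoidHom := by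
    rw [Subgroup.closure_le]
    rintro z ⟨hz, hzP⟩
    change MulAut.conj x z ∈ Subgroup.closure (C ∩ (P : Set G))
    rw [MulAut.conj_apply]
    exact Subgroup.subset_closure ⟨h.conj x z hz,
      (P : Subgroup G).mul_mem ((P : Subgroup G).mul_mem hx hzP) ((P : Subgroup G).inv_mem hx)⟩
  exact h1 hy

/-- Every proper subgroup containing a nontrivial element `c` of `C ∩ P` lies in `maxl C P`. -/
theorem Iso.le_maxl (h : Iso p G C) (hna : ¬ IsMulCommutative G) {P : Sylow p G} {c : G}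
    (hc : c ∈ C) (hc1 : c ≠ 1) (hcP : c ∈ P) {H : Subgroup G} (hH : H ≠ ⊤) (hcH : c ∈ H) :
    H ≤ maxl C P := by
  intro x hx
  -- a Sylow subgroup containing `O_p(H)`
  obtain ⟨Q, hQ⟩ := (isPGroup_map_core (p := p) H).exists_le_sylow
  have hcQ : c ∈ (Q : Subgroup G) := hQ (h.mem_map hH hc hcH)
  have hxc : x * c * x⁻¹ ∈ H := mul_mem (mul_mem hx hcH) (inv_mem hx)
  have hxcQ : x * c * x⁻¹ ∈ (Q : Subgroup G) := hQ (h.mem_map hH (h.conj x c hc) hxc)
  have hxc1 : x * c * x⁻¹ ≠ 1 := by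
    intro hcon
    apply hc1
    have : c = x⁻¹ * (x * c * x⁻¹) * x := by group
    rw [this, hcon]; group
  have e1 : C ∩ (P : Set G) = C ∩ (Q : Set G) :=
    h.inter_sylow_eq hna (Nat.card G) P Q (Nat.le_add_right _ _) ⟨c, hc, hc1, hcP, hcQ⟩
  have e2 : C ∩ ((x • P : Sylow p G) : Set G) = C ∩ (Q : Set G) := by
    refine h.inter_sylow_eq hna (Nat.card G) (x • P) Q (Nat.le_add_right _ _)
      ⟨x * c * x⁻¹, h.conj x c hc, hxc1, ?_, hxcQ⟩
    change x * c * x⁻¹ ∈ ((x • P : Sylow p G) : Set G)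
    rw [mem_smul_sylow]
    have : x⁻¹ * (x * c * x⁻¹) * x = c := by group
    rw [this]
    exact hcP
  refine Subgroup.mem_normalizer_fintype ?_
  intro y hy
  have h1 : Subgroup.closure (C ∩ (P : Set G))
      ≤ (Subgroup.closure (C ∩ (P : Set G))).comap (MulAut.conj x).toMonoidHom := by
    rw [Subgroup.closure_le]
    rintro z ⟨hz, hzP⟩
    change MulAut.conj x z ∈ Subgroup.closure (C ∩ (P : Set G))
    rw [MulAut.conj_apply]
    have h2 : x * z * x⁻¹ ∈ C ∩ ((x • P : Sylow p G) : Set G) := by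
      refine ⟨h.conj x z hz, ?_⟩
      rw [mem_smul_sylow]
      have : x⁻¹ * (x * z * x⁻¹) * x = z := by group
      rwa [this]
    rw [e2, ← e1] at h2
    exact Subgroup.subset_closure h2
  exact h1 hy

theorem CSet.exists_sylow (h : CSet p C) {c : G} (hc : c ∈ C) : ∃ P : Sylow p G, c ∈ P := by
  obtain ⟨P, hP⟩ := (h.isPGroup_zpowers hc).exists_le_sylow
  exact ⟨P, hP (Subgroup.mem_zpowers c)⟩

/-- Two proper subgroups with a common nontrivial element of `C` do not generate `G`. -/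
theorem Iso.two (h : Iso p G C) (hna : ¬ IsMulCommutative G) {c : G} (hc : c ∈ C) (hc1 : c ≠ 1)
    {H₁ H₂ : Subgroup G} (h₁ : H₁ ≠ ⊤) (h₂ : H₂ ≠ ⊤) (hc₁ : c ∈ H₁) (hc₂ : c ∈ H₂) :
    H₁ ⊔ H₂ ≠ ⊤ := by
  obtain ⟨P, hP⟩ := h.exists_sylow hc
  intro htop
  apply h.maxl_ne_top hna hc hc1 hP
  rw [eq_top_iff, ← htop]
  exact sup_le (h.le_maxl hna hc hc1 hP h₁ hc₁) (h.le_maxl hna hc hc1 hP h₂ hc₂)

/-- Every Sylow subgroup contains a nontrivial element of `C`. -/
theorem Iso.exists_mem_sylow (h : Iso p G C) (P : Sylow p G) : ∃ c ∈ C, c ≠ 1 ∧ c ∈ P := by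
  obtain ⟨c, hc, hc1⟩ := h.ne
  obtain ⟨Q, hQ⟩ := h.exists_sylow hc
  obtain ⟨g, rfl⟩ := MulAction.exists_smul_eq G P Q
  refine ⟨g⁻¹ * c * g, h.conj' g hc, ?_, ?_⟩
  · intro hcon
    apply hc1
    have : c = g * (g⁻¹ * c * g) * g⁻¹ := by group
    rw [this, hcon]; group
  · exact mem_smul_sylow.mp hQ

theorem Iso.two_sylow (h : Iso p G C) (hna : ¬ IsMulCommutative G) (P : Sylow p G)
    {H₁ H₂ : Subgroup G} (h₁ : H₁ ≠ ⊤) (h₂ : H₂ ≠ ⊤) (hP₁ : (P : Subgroup G) ≤ H₁)
    (hP₂ : (P : Subgroup G) ≤ H₂) : H₁ ⊔ H₂ ≠ ⊤ := by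
  obtain ⟨c, hc, hc1, hcP⟩ := h.exists_mem_sylow P
  exact h.two hna hc hc1 h₁ h₂ (hP₁ hcP) (hP₂ hcP)

/-- Elements of `C` in a proper subgroup with trivial `p`-core are trivial. -/
theorem Iso.core_kill (h : Iso p G C) {H : Subgroup G} (hH : H ≠ ⊤) (hcore : pCore p H = ⊥)
    {c : G} (hc : c ∈ C) (hcH : c ∈ H) : c = 1 := by
  have h1 := h.core H hH c hcH hc
  rw [hcore, Subgroup.mem_bot] at h1
  exact congrArg Subtype.val h1

/-- No proper subgroup of index prime to `p` has trivial `p`-core. -/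
theorem Iso.index_kill (h : Iso p G C) {H : Subgroup G} (hH : H ≠ ⊤) (hidx : ¬ p ∣ H.index) :
    pCore p H ≠ ⊥ := by
  intro hcore
  obtain ⟨Q⟩ : Nonempty (Sylow p H) := inferInstance
  have hQ : IsPGroup p ↥((Q : Subgroup H).map H.subtype) := Q.isPGroup'.map _
  have hidx' : ¬ p ∣ ((Q : Subgroup H).map H.subtype).index := by
    rw [Subgroup.index_map_subtype]
    intro hd
    rcases (Nat.Prime.dvd_mul Fact.out).mp hd with hd | hd
    · exact Q.not_dvd_index hd
    · exact hidx hd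
  let R : Sylow p G := hQ.toSylow hidx'
  obtain ⟨c, hc, hc1, hcR⟩ := h.exists_mem_sylow R
  have hcH : c ∈ H := by
    have h1 : c ∈ (Q : Subgroup H).map H.subtype := hcR
    obtain ⟨z, -, hz⟩ := h1
    rw [← hz]
    exact z.2
  exact hc1 (h.core_kill hH hcore hc hcH)

/-- Elements of `C` centralise the `p'`-subgroups which they normalise. -/
theorem Iso.centralizes (h : Iso p G C) (hna : ¬ IsMulCommutative G) {c : G} (hc : c ∈ C)
    {R : Subgroup G} (hR : (Nat.card R).Coprime p) (hcR : c ∈ Subgroup.normalizer (R : Set G)) :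
    ∀ x ∈ R, x * c = c * x := by
  by_cases hR1 : R = ⊥
  · intro x hx
    rw [hR1, Subgroup.mem_bot] at hx
    rw [hx, one_mul, mul_one]
  by_cases hRn : R.Normal
  · -- then `R = ⊤` and `c = 1`
    rcases hRn.eq_bot_or_eq_top with hb | hb
    · exact absurd hb hR1
    · intro x _
      have h1 : c = 1 := by
        obtain ⟨k, hk⟩ := h.pel c hc
        have h2 : orderOf c ∣ Nat.card G := orderOf_dvd_natCard c
        rw [hb, Subgroup.card_top] at hR
        rw [hk] at h2
        have h3 : p ^ k = 1 := (hR.symm.pow_left k).eq_one_of_dvd h2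
        rw [h3, orderOf_eq_one_iff] at hk
        exact hk
      rw [h1, one_mul, mul_one]
  · have hN : Subgroup.normalizer (R : Set G) ≠ ⊤ :=
      fun htop => hRn (Subgroup.normalizer_eq_top_iff.mp htop)
    set N := Subgroup.normalizer (R : Set G) with hNdef
    intro x hx
    have hxN : x ∈ N := Subgroup.le_normalizer hx
    have h1 := h.core N hN c hcR hc
    have hn := Cfsg.Agent.Lib.Cores.pCore_normal (G := N) p
    -- the commutator lies in `R` and in `O_p(N)`
    have h2 : (⟨x, hxN⟩ : N) * ⟨c, hcR⟩ * (⟨x, hxN⟩ : N)⁻¹ * (⟨c, hcR⟩ : N)⁻¹ ∈ pCore p N :=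
      mul_mem (hn.conj_mem _ h1 _) (inv_mem h1)
    have h3 : x * (c * x⁻¹ * c⁻¹) ∈ R :=
      R.mul_mem hx (((Subgroup.mem_normalizer_iff.mp hcR) x⁻¹).mp (R.inv_mem hx))
    have h4 : x * c * x⁻¹ * c⁻¹ ∈ (pCore p N).map N.subtype := ⟨_, h2, rfl⟩
    have h5 : x * c * x⁻¹ * c⁻¹ = x * (c * x⁻¹ * c⁻¹) := by group
    rw [← h5] at h3
    obtain ⟨j, hj⟩ := (IsPGroup.iff_orderOf.mp (isPGroup_map_core (p := p) N)) ⟨_, h4⟩
    rw [Subgroup.orderOf_mk] at hj
    have h6 : orderOf (x * c * x⁻¹ * c⁻¹) ∣ Nat.card R := by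
      have := orderOf_dvd_natCard (⟨_, h3⟩ : R)
      rwa [Subgroup.orderOf_mk] at this
    rw [hj] at h6
    have h7 : p ^ j = 1 := (hR.symm.pow_left j).eq_one_of_dvd h6
    rw [h7, orderOf_eq_one_iff] at hj
    have h8 : x * c = x * c * x⁻¹ * c⁻¹ * (c * x) := by group
    rw [h8, hj, one_mul]

/-- In a group of local characteristic `r ≠ p` the elements of `C` normalise no nontrivial
`r`-subgroup. -/
theorem Iso.eq_one_of_normalizes (h : Iso p G C) (hna : ¬ IsMulCommutative G) {r : ℕ}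
    [Fact r.Prime] (hrp : r ≠ p)
    (hloc : ∀ K : Subgroup G, IsPGroup r ↥K → K ≠ ⊥ →
      centralizer (pCore r ↥(normalizer (K : Set G)) : Set ↥(normalizer (K : Set G))) ≤
        pCore r ↥(normalizer (K : Set G))) {c : G} (hc : c ∈ C) {R : Subgroup G}
    (hR : IsPGroup r R) (hR1 : R ≠ ⊥) (hcR : c ∈ Subgroup.normalizer (R : Set G)) : c = 1 := by
  have hN := normalizer_ne_top hna hR hR1
  set N := Subgroup.normalizer (R : Set G) with hNdef
  -- `O_r(N)` is normalised, hence centralised by `c`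
  have hcore : ∀ x ∈ (pCore r N).map N.subtype, x * c = c * x := by
    refine h.centralizes hna hc ?_ ?_
    · obtain ⟨k, hk⟩ := IsPGroup.iff_card.mp (isPGroup_map_core (p := r) N)
      rw [hk]
      exact Nat.Coprime.pow_left k ((Nat.coprime_primes Fact.out Fact.out).mpr hrp)
    · refine Subgroup.mem_normalizer_fintype ?_
      rintro _ ⟨x, hx, rfl⟩
      exact ⟨⟨c, hcR⟩ * x * ⟨c, hcR⟩⁻¹,
        (Cfsg.Agent.Lib.Cores.pCore_normal (G := N) r).conj_mem x hx _, rfl⟩
  have h1 : (⟨c, hcR⟩ : N) ∈ centralizer (pCore r ↥N : Set ↥N) := by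
    rw [Subgroup.mem_centralizer_iff]
    intro x hx
    exact Subtype.ext (hcore x ⟨x, hx, rfl⟩)
  have h2 : (⟨c, hcR⟩ : N) ∈ pCore r N := hloc R hR hR1 h1
  obtain ⟨k, hk⟩ := (Cfsg.Agent.Lib.Cores.pCore_isPGroup (G := N) r) ⟨_, h2⟩
  have h3 : c ^ r ^ k = 1 := by
    have := congrArg (fun z : pCore r N => ((z : N) : G)) hk
    simpa using this
  exact h.eq_one_of_coprime hc Fact.out hrp h3

/-- The commutator `[c, g c g⁻¹]` in terms of the conjugates of `g`. -/
theorem commutator_formula {G : Type u} [Group G] (c g : G) :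
    c⁻¹ * (g * c * g⁻¹)⁻¹ * c * (g * c * g⁻¹)
      = (c⁻¹ * g * c) * ((c ^ 2)⁻¹ * g * c ^ 2)⁻¹ * (c⁻¹ * g * c) * g⁻¹ := by
  simp only [pow_two]
  group

/-- **The triple kill.**  -/
theorem Iso.triple_kill (h : Iso p G C) (hna : ¬ IsMulCommutative G) {r : ℕ}
    [Fact r.Prime] (hrp : r ≠ p)
    (hloc : ∀ K : Subgroup G, IsPGroup r ↥K → K ≠ ⊥ →
      centralizer (pCore r ↥(normalizer (K : Set G)) : Set ↥(normalizer (K : Set G))) ≤
        pCore r ↥(normalizer (K : Set G))) {c : G} (hc : c ∈ C) (hc1 : c ≠ 1) {R : Subgroup G}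
    (hR : IsPGroup r R) {g : G} (hg1 : g ≠ 1) (hg : g ∈ R) (hg' : c⁻¹ * g * c ∈ R)
    (hg'' : (c ^ 2)⁻¹ * g * c ^ 2 ∈ R) : False := by
  set y : G := g * c * g⁻¹ with hy
  have hyC : y ∈ C := h.conj g c hc
  have hcomm := h.comm c hc y hyC
  have hmem : c⁻¹ * y⁻¹ * c * y ∈ R := by
    rw [hy, commutator_formula]
    exact mul_mem (mul_mem (mul_mem hg' (inv_mem hg'')) hg') (inv_mem hg)
  have h1 : c⁻¹ * y⁻¹ * c * y = 1 := by
    obtain ⟨k, hk⟩ := hR ⟨_, hmem⟩
    refine h.eq_one_of_coprime hcomm Fact.out hrp (k := k) ?_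
    simpa using congrArg Subtype.val hk
  have h2 : c * y = y * c := by
    have : c * y = y * c * (c⁻¹ * y⁻¹ * c * y) := by group
    rw [this, h1, mul_one]
  -- `w = c⁻¹ y` is an `r`-element commuting with `c`
  set w : G := c⁻¹ * y with hw
  have hwR : w ∈ R := by
    have : w = (c⁻¹ * g * c) * g⁻¹ := by rw [hw, hy]; group
    rw [this]
    exact mul_mem hg' (inv_mem hg)
  have hwc : c * w = w * c := by
    have h3 : c * w = y := by rw [hw]; group
    have h4 : w * c = c⁻¹ * (y * c) := by rw [hw]; group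
    rw [h3, h4, ← h2]; group
  have key : ∀ z ∈ R, z ≠ 1 → c * z = z * c → False := by
    intro z hz hz1 hzc
    apply hc1
    refine h.eq_one_of_normalizes hna hrp hloc hc (R := Subgroup.zpowers z)
      (hR.to_le (by rw [Subgroup.zpowers_le]; exact hz)) (by rwa [Ne, Subgroup.zpowers_eq_bot]) ?_
    refine Subgroup.mem_normalizer_fintype ?_
    intro x hx
    obtain ⟨i, rfl⟩ := Subgroup.mem_zpowers_iff.mp hx
    have h5 : c * z ^ i * c⁻¹ = z ^ i := by
      have : Commute c (z ^ i) := (show Commute c z from hzc).zpow_right i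
      rw [this.eq, mul_inv_cancel_right]
    rw [h5]
    exact Subgroup.zpow_mem_zpowers z i
  by_cases hw1 : w = 1
  · refine key g hg hg1 ?_
    have h3 : y = c := by
      have : y = c * w := by rw [hw]; group
      rw [this, hw1, mul_one]
    have h4 : g * c = c * g := by
      have : g * c = y * g := by rw [hy]; group
      rw [this, h3]
    exact h4.symm
  · exact key w hwR hw1 hwc

/-- **The three point argument.** If no nontrivial element of `C` fixes a point of `Ω` and `g` fixes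
`ω`, `c ω`, `c² ω`, then `c` commutes with `g c g⁻¹`. -/
theorem CSet.fix_commute {Ω : Type v} [MulAction G Ω] (h : CSet p C)
    (hfix : ∀ e ∈ C, ∀ ω : Ω, e • ω = ω → e = 1) {c g : G} (hc : c ∈ C) {ω : Ω}
    (h0 : g • ω = ω) (h1 : g • (c • ω) = c • ω) (h2 : g • (c • (c • ω)) = c • (c • ω)) :
    Commute c (g * c * g⁻¹) := by
  have hg0 : g⁻¹ • ω = ω := inv_smul_eq_iff.mpr h0.symm
  have hg1 : g⁻¹ • (c • ω) = c • ω := inv_smul_eq_iff.mpr h1.symm
  set y : G := g * c * g⁻¹ with hy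
  have e0 : y • ω = c • ω := by rw [hy, mul_smul, mul_smul, hg0, h1]
  have e1 : y • (c • ω) = c • (c • ω) := by rw [hy, mul_smul, mul_smul, hg1, h2]
  have e2 : (c⁻¹ * y⁻¹ * c * y) • ω = ω := by
    rw [mul_smul, mul_smul, mul_smul, e0]
    rw [inv_smul_eq_iff, inv_smul_eq_iff, e1]
  have e3 := hfix _ (h.comm c hc y (h.conj g c hc)) ω e2
  have : c * y = y * c * (c⁻¹ * y⁻¹ * c * y) := by group
  change c * y = y * c
  rw [this, e3, mul_one]

/-- A nontrivial element of `C` and an element outside its maximal subgroup generate `G`. -/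
theorem Iso.closure_eq_top (h : Iso p G C) (hna : ¬ IsMulCommutative G) {P : Sylow p G} {c y : G}
    (hc : c ∈ C) (hc1 : c ≠ 1) (hcP : c ∈ P) (hy : y ∉ maxl C P) :
    Subgroup.closure ({c, y} : Set G) = ⊤ := by
  by_contra hne
  exact hy (h.le_maxl hna hc hc1 hcP hne (Subgroup.subset_closure (by simp))
    (Subgroup.subset_closure (by simp)))

/-- `C` contains no involutions. -/
theorem Iso.no_involution (h : Iso p G C) (hna : ¬ IsMulCommutative G) {c : G} (hc : c ∈ C)
    (hc1 : c ≠ 1) : c * c ≠ 1 := by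
  intro hcc
  obtain ⟨P, hP⟩ := h.exists_sylow hc
  have hM := h.maxl_ne_top hna hc hc1 hP
  -- a conjugate outside the maximal subgroup
  obtain ⟨g, hg⟩ : ∃ g : G, g * c * g⁻¹ ∉ maxl C P := by
    by_contra hcon
    push Not at hcon
    apply hM
    have hn : (Subgroup.normalClosure {c} : Subgroup G) ≤ maxl C P := by
      rw [Subgroup.normalClosure, Subgroup.closure_le]
      intro x hx
      obtain ⟨a, ha, hax⟩ := Group.mem_conjugatesOfSet_iff.mp hx
      rw [Set.mem_singleton_iff] at ha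
      subst ha
      obtain ⟨b, rfl⟩ := isConj_iff.mp hax
      exact hcon b
    have hnn : (Subgroup.normalClosure {c} : Subgroup G).Normal := Subgroup.normalClosure_normal
    rcases hnn.eq_bot_or_eq_top with hb | hb
    · exfalso
      apply hc1
      have : c ∈ (Subgroup.normalClosure {c} : Subgroup G) := Subgroup.subset_normalClosure rfl
      rwa [hb, Subgroup.mem_bot] at this
    · rw [eq_top_iff, ← hb]
      exact hn
  set y : G := g * c * g⁻¹ with hy
  have hyy : y * y = 1 := by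
    have : y * y = g * (c * c) * g⁻¹ := by rw [hy]; group
    rw [this, hcc]; group
  clear_value y
  have htop := h.closure_eq_top hna hc hc1 hP hg
  have hcinv : c⁻¹ = c := inv_eq_of_mul_eq_one_left hcc
  have hyinv : y⁻¹ = y := inv_eq_of_mul_eq_one_left hyy
  -- `⟨c y⟩` is normal
  have hn : (Subgroup.zpowers (c * y)).Normal := by
    rw [← Subgroup.normalizer_eq_top_iff, eq_top_iff, ← htop, Subgroup.closure_le]
    have key : ∀ z : G, z * (c * y) * z⁻¹ = (c * y)⁻¹ →
        z ∈ Subgroup.normalizer ((Subgroup.zpowers (c * y) : Subgroup G) : Set G) := by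
      intro z hz
      refine Subgroup.mem_normalizer_fintype ?_
      intro x hx
      obtain ⟨i, rfl⟩ := Subgroup.mem_zpowers_iff.mp hx
      have : z * (c * y) ^ i * z⁻¹ = ((c * y)⁻¹) ^ i := by rw [← hz, conj_zpow]
      rw [this]
      exact zpow_mem (inv_mem (Subgroup.mem_zpowers _)) i
    rintro z (rfl | rfl)
    · apply key
      rw [mul_inv_rev, hyinv, hcinv, ← mul_assoc, hcc, one_mul]
    · apply key
      rw [mul_inv_rev, hyinv, hcinv, mul_assoc, mul_assoc, hyy, mul_one]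
  rcases hn.eq_bot_or_eq_top with hb | hb
  · rw [Subgroup.zpowers_eq_bot] at hb
    apply hg
    have : y = c := by
      rw [← hcinv]
      exact (inv_eq_of_mul_eq_one_right hb).symm
    rw [this]
    exact h.sylow_le_maxl P hP
  · apply hna
    refine ⟨⟨fun a b => ?_⟩⟩
    have ha : a ∈ Subgroup.zpowers (c * y) := by rw [hb]; exact Subgroup.mem_top a
    have hb' : b ∈ Subgroup.zpowers (c * y) := by rw [hb]; exact Subgroup.mem_top b
    obtain ⟨i, rfl⟩ := Subgroup.mem_zpowers_iff.mp ha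
    obtain ⟨j, rfl⟩ := Subgroup.mem_zpowers_iff.mp hb'
    rw [← zpow_add, ← zpow_add, add_comm]

end simple

end Cfsg.Agent.H533.Comm
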