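import Cfsg.Agent.H533.Comm.Defs

/-!
# The reduction of S3828 to the rows `CRow p K`
-/

set_option autoImplicit false
set_option linter.unusedSectionVars false
set_option linter.unusedVariables false

namespace Cfsg.Agent.H533.Comm

universe u

open Subgroup Cfsg

variable {G : Type u} [Group G] {p : ℕ} {C : Set G}

theorem CSet.preimage (h : CSet p C) (H : Subgroup G) : CSet p (((↑) : H → G) ⁻¹' C) where
  conj := fun g c hc => h.conj g c hc
  pel := fun c hc => by
    obtain ⟨k, hk⟩ := h.pel c hc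
    exact ⟨k, by rw [← hk, Subgroup.orderOf_coe]⟩
  comm := fun c hc d hd => h.comm c hc d hd
  sq := fun h5 c hc => h.sq h5 c hc

theorem CSet.image [Finite G] [hp : Fact p.Prime] (h : CSet p C) {H : Type u} [Group H]
    (φ : G →* H) (hφ : Function.Surjective φ) : CSet p (φ '' C) where
  conj := by
    rintro g _ ⟨c, hc, rfl⟩
    obtain ⟨x, rfl⟩ := hφ g
    exact ⟨x * c * x⁻¹, h.conj x c hc, by simp⟩
  pel := by
    rintro _ ⟨c, hc, rfl⟩
    obtain ⟨k, hk⟩ := h.pel c hc
    have h1 : orderOf (φ c) ∣ p ^ k := by rw [← hk]; exact orderOf_map_dvd φ c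
    obtain ⟨j, -, hj⟩ := (Nat.dvd_prime_pow hp.out).mp h1
    exact ⟨j, hj⟩
  comm := by
    rintro _ ⟨c, hc, rfl⟩ _ ⟨d, hd, rfl⟩
    exact ⟨c⁻¹ * d⁻¹ * c * d, h.comm c hc d hd, by simp⟩
  sq := by
    rintro h5 _ ⟨c, hc, rfl⟩
    exact ⟨c ^ 2, h.sq h5 c hc, by simp⟩

section finite

variable [Finite G] [hp : Fact p.Prime]

/-- `C` centralises the normal `p'`-subgroups. -/
theorem CSet.commute_coprime (h : CSet p C) {M : Subgroup G} [M.Normal]
    (hM : (Nat.card M).Coprime p) {c m : G} (hc : c ∈ C) (hm : m ∈ M) : m * c = c * m := by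
  have hMn : M.Normal := inferInstance
  set y : G := m * c * m⁻¹ with hy
  have hyC : y ∈ C := h.conj m c hc
  have hpM : ∀ z ∈ M, (∃ k : ℕ, z ^ p ^ k = 1) → z = 1 := by
    rintro z hz ⟨k, hk⟩
    have h1 : orderOf z ∣ p ^ k := orderOf_dvd_of_pow_eq_one hk
    have h2 : orderOf z ∣ Nat.card M := by
      have := orderOf_dvd_natCard (⟨z, hz⟩ : M)
      rwa [Subgroup.orderOf_mk] at this
    rw [← orderOf_eq_one_iff]
    exact Nat.eq_one_of_dvd_coprimes (hM.pow_right k) h2 h1
  have hcm : ∀ i : ℕ, (c ^ i)⁻¹ * m * c ^ i ∈ M := by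
    intro i
    simpa using hMn.conj_mem m hm (c ^ i)⁻¹
  have hmem : c⁻¹ * y⁻¹ * c * y ∈ M := by
    rw [hy, commutator_formula]
    have h1 := hcm 1
    rw [pow_one] at h1
    exact M.mul_mem (M.mul_mem (M.mul_mem h1 (M.inv_mem (hcm 2))) h1) (M.inv_mem hm)
  have h1 : c⁻¹ * y⁻¹ * c * y = 1 := by
    obtain ⟨k, hk⟩ := h.pel _ (h.comm c hc y hyC)
    exact hpM _ hmem ⟨k, by rw [← hk, pow_orderOf_eq_one]⟩
  have h2 : c * y = y * c := by
    have : c * y = y * c * (c⁻¹ * y⁻¹ * c * y) := by group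
    rw [this, h1, mul_one]
  set v : G := c⁻¹ * y with hv
  have hvM : v ∈ M := by
    have : v = (c⁻¹ * m * c) * m⁻¹ := by rw [hv, hy]; group
    rw [this]
    have h1 := hcm 1
    rw [pow_one] at h1
    exact M.mul_mem h1 (M.inv_mem hm)
  have hcv : Commute c v := by
    change c * v = v * c
    have h3 : c * v = y := by rw [hv]; group
    have h4 : v * c = c⁻¹ * (y * c) := by rw [hv]; group
    rw [h3, h4, ← h2]; group
  have hyv : y = c * v := by rw [hv]; group
  have hv1 : v = 1 := by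
    obtain ⟨k, hk⟩ := h.pel c hc
    refine hpM v hvM ⟨k, ?_⟩
    have h3 : y ^ p ^ k = 1 := by
      have h4 : orderOf y = orderOf c := by
        have : y = MulAut.conj m c := by rw [hy, MulAut.conj_apply]
        rw [this]
        exact orderOf_injective (MulAut.conj m).toMonoidHom (MulAut.conj m).injective c
      rw [← hk, ← h4, pow_orderOf_eq_one]
    rw [hyv, hcv.mul_pow, ← hk, pow_orderOf_eq_one, one_mul] at h3
    rw [← hk]; exact h3
  have h5 : y = c := by rw [hyv, hv1, mul_one]
  have : m * c = y * m := by rw [hy]; group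
  rw [this, h5]

/-- An element of `C` moving `S` makes the elements of `S` have a `p`-power in `C(S)`. -/
theorem CSet.pow_mem_centralizer (h : CSet p C) {M S : Subgroup G} [M.Normal] (hSM : S ≤ M)
    (hMS : M ≤ Subgroup.normalizer (S : Set G))
    (hmin : ∀ T : Subgroup G, T ≤ S → T ≠ ⊥ → M ≤ Subgroup.normalizer (T : Set G) → T = S)
    {c : G} (hc : c ∈ C) (hcS : c ∉ Subgroup.normalizer (S : Set G)) {m : G} (hm : m ∈ S) :
    ∃ k : ℕ, m ^ p ^ k ∈ Subgroup.centralizer (S : Set G) := by
  set y : G := m * c * m⁻¹ with hy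
  have hyC : y ∈ C := h.conj m c hc
  obtain ⟨k, hk⟩ := h.pel _ (h.comm c hc y hyC)
  set g₁ : G := c⁻¹ * m * c with hg₁
  set g₂ : G := (c ^ 2)⁻¹ * m * c ^ 2 with hg₂
  have he : c⁻¹ * y⁻¹ * c * y = g₁ * g₂⁻¹ * g₁ * m⁻¹ := by rw [hy, commutator_formula]
  rw [he] at hk
  have hpow : (g₁ * g₂⁻¹ * g₁ * m⁻¹) ^ p ^ k = 1 := by rw [← hk, pow_orderOf_eq_one]
  have hcinv : c⁻¹ ∉ Subgroup.normalizer (S : Set G) := fun hcon => hcS (by
    simpa using Subgroup.inv_mem _ hcon)
  -- `S` commutes with its conjugate by `c`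
  have hSc : ∀ s ∈ S, ∀ s' ∈ S, Commute s (c⁻¹ * s' * c) := by
    intro s hs s' hs'
    have := T5.Red.commute_of_not_mem hSM hMS hmin hcinv hs hs'
    simpa using this
  have h01 : ∀ s ∈ S, Commute s g₁ := fun s hs => hSc s hs m hm
  have h12 : ∀ s ∈ S, Commute (c⁻¹ * s * c) g₂ := by
    intro s hs
    have h1 := (hSc s hs m hm).map (MulAut.conj c⁻¹).toMonoidHom
    simp only [MulEquiv.toMonoidHom_eq_coe, MonoidHom.coe_coe, MulAut.conj_apply, inv_inv] at h1
    have h2 : c⁻¹ * (c⁻¹ * m * c) * c = g₂ := by rw [hg₂, pow_two]; group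
    rwa [h2] at h1
  have hg12 : Commute g₁ g₂ := h12 m hm
  have hg01 : Commute m g₁ := h01 m hm
  clear_value g₁ g₂
  have hform : g₁ * g₂⁻¹ * g₁ * m⁻¹ = g₁ ^ 2 * (m * g₂)⁻¹ := by
    have h1 : g₂⁻¹ * g₁ = g₁ * g₂⁻¹ := (hg12.inv_right).eq.symm
    calc g₁ * g₂⁻¹ * g₁ * m⁻¹ = g₁ * (g₂⁻¹ * g₁) * m⁻¹ := by simp only [mul_assoc]
      _ = g₁ * (g₁ * g₂⁻¹) * m⁻¹ := by rw [h1]
      _ = g₁ ^ 2 * (m * g₂)⁻¹ := by rw [mul_inv_rev, pow_two]; simp only [mul_assoc]
  have hcomm2 : Commute (g₁ ^ 2) (m * g₂)⁻¹ :=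
    (((hg01.symm).mul_right hg12).inv_right).pow_left 2
  rw [hform, hcomm2.mul_pow, inv_pow, mul_inv_eq_one, ← pow_mul] at hpow
  rcases hp.out.eq_two_or_odd' with h2 | hodd
  · -- `p = 2`
    refine ⟨k + 1, ?_⟩
    have hpk : p ^ (k + 1) = 2 * p ^ k := by rw [pow_succ, h2, mul_comm]
    rw [Subgroup.mem_centralizer_iff]
    intro s hs
    -- `g₁ ^ (2 p ^ k)` commutes with `c⁻¹ s c`
    have h3 : Commute (c⁻¹ * s * c) (g₁ ^ (2 * p ^ k)) := by
      rw [hpow]
      refine Commute.pow_right ?_ _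
      refine Commute.mul_right ?_ (h12 s hs)
      exact (hSc m hm s hs).symm
    have h4 := h3.map (MulAut.conj c).toMonoidHom
    simp only [MulEquiv.toMonoidHom_eq_coe, MonoidHom.coe_coe, MulAut.conj_apply] at h4
    have h5 : c * (c⁻¹ * s * c) * c⁻¹ = s := by group
    have h6 : c * g₁ ^ (2 * p ^ k) * c⁻¹ = m ^ (2 * p ^ k) := by
      rw [← conj_pow]
      congr 1
      rw [hg₁]; group
    rw [h5, h6, ← hpk] at h4
    exact h4.eq
  · -- `p` odd
    have hc2 : (c ^ 2)⁻¹ ∉ Subgroup.normalizer (S : Set G) := by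
      intro hcon
      apply hcS
      obtain ⟨j, hj⟩ := h.pel c hc
      have ho : Odd (orderOf c) := by rw [hj]; exact hodd.pow
      obtain ⟨i, hi⟩ := ho
      have h3 : c = (c ^ 2) ^ (i + 1) := by
        rw [← pow_mul]
        have : 2 * (i + 1) = orderOf c + 1 := by rw [hi]; ring
        rw [this, pow_succ, pow_orderOf_eq_one, one_mul]
      rw [h3]
      refine pow_mem ?_ _
      simpa using Subgroup.inv_mem _ hcon
    have h02 : ∀ s ∈ S, Commute s g₂ := by
      intro s hs
      have := T5.Red.commute_of_not_mem hSM hMS hmin hc2 hs hm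
      rw [hg₂]
      simpa using this
    refine ⟨k, ?_⟩
    rw [Subgroup.mem_centralizer_iff]
    intro s hs
    have h3 : m ^ p ^ k = g₁ ^ (2 * p ^ k) * (g₂ ^ p ^ k)⁻¹ := by
      rw [hpow, (h02 m hm).mul_pow, mul_inv_cancel_right]
    rw [h3]
    exact (((h01 s hs).pow_right _).mul_right (((h02 s hs).pow_right _).inv_right)).eq

theorem isPGroup_of_card
    (row : ∀ (K : Type u) [Group K] [Finite K] [IsSimpleGroup K], ¬ IsMulCommutative K → CRow p K) :
    ∀ (n : ℕ) (G : Type u) [Group G] [Finite G] (C : Set G), Nat.card G = n → CSet p C →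
      IsPGroup p ↥(Subgroup.closure C) := by
  intro n
  induction n using Nat.strong_induction_on with
  | _ n ih =>
  intro G _ _ C hn h
  -- proper subgroups
  have hsub : ∀ H : Subgroup G, H ≠ ⊤ →
      IsPGroup p ↥(Subgroup.closure (((↑) : H → G) ⁻¹' C)) := by
    intro H hH
    refine ih (Nat.card H) ?_ H _ rfl (h.preimage H)
    rw [← hn]
    refine lt_of_le_of_ne (Subgroup.card_le_card_group H) ?_
    intro heq
    exact hH (Subgroup.eq_top_of_card_eq H heq)
  -- the generated subgroup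
  by_cases htop : Subgroup.closure C = ⊤
  swap
  · have h1 := hsub _ htop
    have h2 : (Subgroup.closure (((↑) : Subgroup.closure C → G) ⁻¹' C)).map
        (Subgroup.closure C).subtype = Subgroup.closure C := by
      rw [MonoidHom.map_closure]
      congr 1
      ext x
      constructor
      · rintro ⟨y, hy, rfl⟩
        exact hy
      · intro hx
        exact ⟨⟨x, Subgroup.subset_closure hx⟩, hx, rfl⟩
    have h3 := h1.map (Subgroup.closure C).subtype
    rwa [h2] at h3
  rw [htop]
  suffices hG : IsPGroup p G from hG.of_equiv Subgroup.topEquiv.symm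
  by_cases hnt : Nontrivial G
  swap
  · rw [not_nontrivial_iff_subsingleton] at hnt
    exact IsPGroup.of_card (n := 0) (by rw [pow_zero]; exact Nat.card_eq_one_iff_unique.mpr ⟨hnt, ⟨1⟩⟩)
  have hne : ∃ c ∈ C, c ≠ 1 := by
    by_contra hcon
    push Not at hcon
    apply (bot_ne_top : (⊥ : Subgroup G) ≠ ⊤)
    rw [eq_comm, eq_bot_iff, ← htop, Subgroup.closure_le]
    exact hcon
  have hquot : ∀ N : Subgroup G, ∀ [N.Normal], N ≠ ⊥ → IsPGroup p (G ⧸ N) := by
    intro N _ hN
    have hlt : Nat.card (G ⧸ N) < n := by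
      rw [← hn, Subgroup.card_eq_card_quotient_mul_card_subgroup N]
      have h1 : 1 < Nat.card N := Subgroup.one_lt_card_iff_ne_bot N |>.mpr hN
      have h2 : 0 < Nat.card (G ⧸ N) := Nat.card_pos
      nlinarith
    have h1 := ih _ hlt (G ⧸ N) (QuotientGroup.mk' N '' C) rfl
      (h.image _ (QuotientGroup.mk'_surjective N))
    rw [← MonoidHom.map_closure, htop,
      Subgroup.map_top_of_surjective _ (QuotientGroup.mk'_surjective N)] at h1
    exact h1.of_equiv Subgroup.topEquiv
  by_contra hG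
  have hcore : pCore p G = ⊥ := by
    by_contra hne
    exact hG (T5.Red.isPGroup_of_quotient (Cfsg.Agent.Lib.Cores.pCore_isPGroup p) (hquot _ hne))
  have hcore' : pPrimeCore p G = ⊥ := by
    by_contra hne'
    have hQ := hquot _ hne'
    obtain ⟨P⟩ : Nonempty (Sylow p G) := inferInstance
    have hle : (⊤ : Subgroup G) ≤ (P : Subgroup G) := by
      rw [← htop, Subgroup.closure_le]
      intro c hc
      obtain ⟨m, hm, hmP⟩ := T5.Red.exists_conj_mem hQ P (h.isPGroup_zpowers hc)
      have h1 := h.commute_coprime (Cfsg.Agent.Lib.Cores.pPrimeCore_coprime p) hc hm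
      have h2 : m⁻¹ * c * m = c := by
        rw [mul_assoc, ← h1, ← mul_assoc, inv_mul_cancel, one_mul]
      rw [h2] at hmP
      exact hmP
    apply hG
    have := P.isPGroup'
    rw [top_le_iff.mp hle] at this
    exact this.of_equiv Subgroup.topEquiv
  obtain ⟨M, hMn, hM1, hMmin⟩ := T5.Red.exists_minimal_normal (G := G)
  obtain ⟨S, hSM, hS1, hMS, hSmin⟩ := T5.Red.exists_minimal_normalized M hM1
  have hSyl : Nat.card (Sylow p S) ≠ 1 := T5.Red.card_sylow_ne_one hcore hcore' hSM hMS hS1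
  -- `S` is not abelian and not a `p`-group
  have hSna : ¬ S ≤ Subgroup.centralizer (S : Set G) := by
    intro hle
    apply hSyl
    have hcomm : ∀ x y : S, x * y = y * x := fun x y => Subtype.ext
      ((Subgroup.mem_centralizer_iff.mp (hle x.2)) y y.2).symm
    obtain ⟨X⟩ : Nonempty (Sylow p S) := inferInstance
    have hXn : (X : Subgroup S).Normal := by
      constructor
      intro x hx y
      have : y * x * y⁻¹ = x := by rw [hcomm y x, mul_inv_cancel_right]
      rwa [this]
    have : Subsingleton (Sylow p S) := ⟨fun Y Z => by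
      obtain ⟨y, rfl⟩ := MulAction.exists_smul_eq S X Y
      obtain ⟨z, rfl⟩ := MulAction.exists_smul_eq S X Z
      rw [Sylow.smul_eq_of_normal, Sylow.smul_eq_of_normal]⟩
    exact Nat.card_eq_one_iff_unique.mpr ⟨this, inferInstance⟩
  have hSp : ¬ IsPGroup p S := by
    intro hcon
    apply hSyl
    have h1 : ∀ X : Sylow p S, (X : Subgroup S) = ⊤ := by
      intro X
      have h2 : IsPGroup p (⊤ : Subgroup S) := hcon.of_equiv Subgroup.topEquiv.symm
      exact (X.is_maximal' h2 le_top).symm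
    have : Subsingleton (Sylow p S) := ⟨fun X Y => by
      apply Sylow.ext; rw [h1 X, h1 Y]⟩
    exact Nat.card_eq_one_iff_unique.mpr ⟨this, inferInstance⟩
  have hSZ : S ⊓ Subgroup.centralizer (S : Set G) = ⊥ := by
    by_contra hne
    apply hSna
    have h1 := hSmin (S ⊓ Subgroup.centralizer (S : Set G)) inf_le_left hne (by
      intro m hm
      refine Subgroup.mem_normalizer_fintype ?_
      rintro x ⟨hxS, hxC⟩
      have hm' := Subgroup.mem_normalizer_iff.mp (hMS hm)
      refine ⟨(hm' x).mp hxS, ?_⟩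
      change m * x * m⁻¹ ∈ Subgroup.centralizer (S : Set G)
      rw [Subgroup.mem_centralizer_iff]
      intro s hs
      have h2 : m⁻¹ * s * m ∈ S := by
        have := (Subgroup.mem_normalizer_iff.mp (Subgroup.inv_mem _ (hMS hm)) s).mp hs
        simpa using this
      have h3 := (Subgroup.mem_centralizer_iff.mp hxC) _ h2
      have h4 : s * (m * x * m⁻¹) = m * ((m⁻¹ * s * m) * x) * m⁻¹ := by group
      rw [h4, h3]; group)
    exact h1.symm.le.trans inf_le_right
  by_cases hS : Subgroup.normalizer (S : Set G) = ⊤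
  · -- `S = M` is simple
    have hSn : S.Normal := Subgroup.normalizer_eq_top_iff.mp hS
    have hSeq : S = M := hMmin S hSn hSM hS1
    subst hSeq
    have hntS : Nontrivial S := (Subgroup.nontrivial_iff_ne_bot S).mpr hS1
    have hsimple : IsSimpleGroup S := by
      refine ⟨fun H hH => ?_⟩
      by_cases hb : H = ⊥
      · exact Or.inl hb
      · right
        have h1 := hSmin (H.map S.subtype) (Subgroup.map_subtype_le H)
          (by rw [Ne, Subgroup.map_eq_bot_iff_of_injective _ S.subtype_injective]; exact hb) (by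
            intro m hm
            refine Subgroup.mem_normalizer_fintype ?_
            rintro _ ⟨x, hx, rfl⟩
            exact ⟨⟨m, hm⟩ * x * ⟨m, hm⟩⁻¹, hH.conj_mem x hx ⟨m, hm⟩, by simp⟩)
        rw [eq_top_iff]
        intro x _
        have h2 : (x : G) ∈ H.map S.subtype := by rw [h1]; exact x.2
        obtain ⟨y, hy, hyx⟩ := h2
        have : y = x := Subtype.ext hyx
        rwa [← this]
    have hna : ¬ IsMulCommutative S := by
      intro hcomm
      apply hSna
      intro x hx
      rw [Subgroup.mem_centralizer_iff]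
      intro y hy
      exact congrArg Subtype.val (hcomm.is_comm.comm (⟨y, hy⟩ : S) ⟨x, hx⟩)
    have hZ : Subgroup.centralizer (S : Set G) = ⊥ := by
      by_contra hZ
      have hZn : (Subgroup.centralizer (S : Set G)).Normal := inferInstance
      have h1 := hquot _ hZ
      apply hSp
      refine h1.of_injective ((QuotientGroup.mk' (Subgroup.centralizer (S : Set G))).comp S.subtype) ?_
      rw [injective_iff_map_eq_one]
      intro x hx
      have h2 : (x : G) ∈ Subgroup.centralizer (S : Set G) :=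
        (QuotientGroup.eq_one_iff (x : G)).mp hx
      have h3 : (x : G) ∈ S ⊓ Subgroup.centralizer (S : Set G) := ⟨x.2, h2⟩
      rw [hSZ, Subgroup.mem_bot] at h3
      exact Subtype.ext h3
    obtain ⟨c, hc, hc1⟩ := hne
    -- `S = ⊤`
    have hStop : S = ⊤ := by
      by_contra hStop
      have h1 := hsub S hStop
      have hN : (Subgroup.closure (((↑) : S → G) ⁻¹' C)).Normal := by
        constructor
        intro x hx g
        have h2 : Subgroup.closure (((↑) : S → G) ⁻¹' C)
            ≤ (Subgroup.closure (((↑) : S → G) ⁻¹' C)).comap (MulAut.conj g).toMonoidHom := by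
          rw [Subgroup.closure_le]
          intro c hc
          change MulAut.conj g c ∈ Subgroup.closure (((↑) : S → G) ⁻¹' C)
          rw [MulAut.conj_apply]
          exact Subgroup.subset_closure (h.conj g c hc)
        exact h2 hx
      have hCS : ∀ e ∈ C, e ∈ S → e = 1 := by
        intro e he heS
        rcases hN.eq_bot_or_eq_top with h2 | h2
        · have h3 : (⟨e, heS⟩ : S) ∈ Subgroup.closure (((↑) : S → G) ⁻¹' C) :=
            Subgroup.subset_closure he
          rw [h2, Subgroup.mem_bot] at h3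
          exact congrArg Subtype.val h3
        · exfalso
          rw [h2] at h1
          exact hSp (h1.of_equiv Subgroup.topEquiv)
      refine T5.commute_all_contra S hsimple hZ hc1 hc1 ?_
      intro g hg
      have h2 := h.comm c hc _ (h.conj g c hc)
      have h3 := hCS _ h2 (by
        rw [commutator_formula]
        have hcm : ∀ i : ℕ, (c ^ i)⁻¹ * g * c ^ i ∈ S := by
          intro i
          simpa using hSn.conj_mem g hg (c ^ i)⁻¹
        have h1 := hcm 1
        rw [pow_one] at h1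
        exact S.mul_mem (S.mul_mem (S.mul_mem h1 (S.inv_mem (hcm 2))) h1) (S.inv_mem hg))
      change c * (g * c * g⁻¹) = g * c * g⁻¹ * c
      have h4 : c * (g * c * g⁻¹) = (g * c * g⁻¹) * c * (c⁻¹ * (g * c * g⁻¹)⁻¹ * c * (g * c * g⁻¹)) := by
        group
      rw [h4, h3, mul_one]
    subst hStop
    have hGs : IsSimpleGroup G := (Subgroup.topEquiv : (⊤ : Subgroup G) ≃* G).symm.isSimpleGroup
    have hGna : ¬ IsMulCommutative G := by
      intro hcomm
      apply hna
      exact ⟨⟨fun a b => Subtype.ext (hcomm.is_comm.comm (a : G) b)⟩⟩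
    refine row G hGna C ⟨h, ⟨c, hc, hc1⟩, ?_⟩
    intro H hH e he heC
    have h1 := hsub H hH
    have hN : (Subgroup.closure (((↑) : H → G) ⁻¹' C)).Normal := by
      constructor
      intro x hx g
      have h2 : Subgroup.closure (((↑) : H → G) ⁻¹' C)
          ≤ (Subgroup.closure (((↑) : H → G) ⁻¹' C)).comap (MulAut.conj g).toMonoidHom := by
        rw [Subgroup.closure_le]
        intro c hc
        change MulAut.conj g c ∈ Subgroup.closure (((↑) : H → G) ⁻¹' C)
        rw [MulAut.conj_apply]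
        exact Subgroup.subset_closure (h.conj g c hc)
      exact h2 hx
    exact Cfsg.Agent.Lib.Cores.le_pCore hN h1 (Subgroup.subset_closure heC)
  · -- an element of `C` moves `S`
    obtain ⟨c, hc, hcS⟩ : ∃ c ∈ C, c ∉ Subgroup.normalizer (S : Set G) := by
      by_contra hcon
      push Not at hcon
      apply hS
      rw [eq_top_iff, ← htop, Subgroup.closure_le]
      exact hcon
    apply hSp
    intro m
    obtain ⟨k, hk⟩ := h.pow_mem_centralizer hSM hMS hSmin hc hcS m.2
    refine ⟨k, ?_⟩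
    have h1 : (m : G) ^ p ^ k ∈ S ⊓ Subgroup.centralizer (S : Set G) := ⟨S.pow_mem m.2 _, hk⟩
    rw [hSZ, Subgroup.mem_bot] at h1
    exact Subtype.ext (by simpa using h1)

/-- S3828 from the rows. -/
theorem s3828_of {p : ℕ} [Fact p.Prime]
    (row : ∀ (K : Type u) [Group K] [Finite K] [IsSimpleGroup K], ¬ IsMulCommutative K → CRow p K)
    {G : Type u} [Group G] [Finite G] (C : Set G)
    (hC : ∀ g : G, ∀ c ∈ C, g * c * g⁻¹ ∈ C) (hp : ∀ c ∈ C, (∃ k : ℕ, orderOf c = p ^ k))
    (hcomm : ∀ c ∈ C, ∀ d ∈ C, c⁻¹ * d⁻¹ * c * d ∈ C) :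
    IsPGroup p ↥(Subgroup.closure C) ∨ (p = 5 ∧ ∃ c ∈ C, c ^ 2 ∉ C) := by
  by_cases h5 : p = 5 ∧ ∃ c ∈ C, c ^ 2 ∉ C
  · exact Or.inr h5
  · left
    refine isPGroup_of_card row _ G C rfl ⟨hC, hp, hcomm, ?_⟩
    intro hp5 c hc
    by_contra hcc
    exact h5 ⟨hp5, c, hc, hcc⟩

end finite

end Cfsg.Agent.H533.Comm
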